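import Groth.Agent.L14.FlatMor.RegPair
import Groth.Agent.L07.KoszulMor

/-! # Koszul composites: the factors -/

set_option autoImplicit false
set_option linter.style.haveILetI false
set_option maxSynthPendingDepth 3

universe u

open CategoryTheory CategoryTheory.Limits AlgebraicGeometry TensorProduct
open Groth.L07.KoszulIdeal (RegAt regAt_descend)
open Groth.L07.KoszulChart
open Groth.L07.DiagRes (Res)

namespace Groth.L14.FlatMor

/-- If `f ≫ g` is Koszul at `x` and, in charts, `f` has finite resolutions locally at `x`, then `f` is Koszul at `x`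
and `g` at `f x`. -/
theorem koszulAt_pair {X Y S : Scheme.{u}} (f : X ⟶ Y) (g : Y ⟶ S) [IsLocallyNoetherian S] [LocallyOfFiniteType g]
    (x : X) (h : Synt.IsKoszulAt (f ≫ g) x)
    (hres : ∀ (U : X.Opens) (V : Y.Opens) (_ : IsAffineOpen U) (_ : IsAffineOpen V) (e : U ≤ f ⁻¹ᵁ V) (n : ℕ)
      (α : MvPolynomial (Fin n) Γ(Y, V) →+* Γ(X, U)), Function.Surjective α →
      α.comp MvPolynomial.C = (f.appLE V U e).hom →
      ∀ (q : Ideal (MvPolynomial (Fin n) Γ(Y, V))) [q.IsPrime] (E : Type u) [CommRing E] [IsLocalRing E]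
        [Algebra (MvPolynomial (Fin n) Γ(Y, V)) E] [IsLocalization.AtPrime E q],
        ∃ k, Res E k (E ⊗[MvPolynomial (Fin n) Γ(Y, V)] (MvPolynomial (Fin n) Γ(Y, V) ⧸ RingHom.ker α))) :
    Synt.IsKoszulAt f x ∧ Synt.IsKoszulAt g (f x) := by
  obtain ⟨U₀, P₀, i₀, π₀, hx₀, hft, -, -, -⟩ := id h
  obtain ⟨W, hW, hxW, -⟩ := exists_affine_nhd (g (f x)) ⊤ trivial
  obtain ⟨V, hV, hxV, eV⟩ := exists_affine_nhd (f x) (g ⁻¹ᵁ W) hxW
  obtain ⟨U, hU, hxU, hle⟩ := exists_affine_nhd x (U₀ ⊓ f ⁻¹ᵁ V) ⟨hx₀, hxV⟩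
  have eU : U ≤ f ⁻¹ᵁ V := fun z hz => (hle hz).2
  have e : U ≤ (f ≫ g) ⁻¹ᵁ W := fun z hz => eV (eU hz)
  haveI : LocallyOfFiniteType (U.ι ≫ f) := by
    haveI := hft
    haveI : LocallyOfFiniteType (U₀.ι ≫ f) := by
      haveI : LocallyOfFiniteType ((U₀.ι ≫ f) ≫ g) := by rw [Category.assoc]; exact hft
      exact locallyOfFiniteType_of_comp (U₀.ι ≫ f) g
    rw [← X.homOfLE_ι (show U ≤ U₀ from fun z hz => (hle hz).1), Category.assoc]
    infer_instance
  obtain ⟨n, α, hα, hαC⟩ := exists_presentation _ (finiteType_appLE f hU hV eU inferInstance)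
  obtain ⟨m, β, hβ, hβC⟩ := exists_presentation _ (finiteType_appLE g hV hW eV inferInstance)
  haveI : IsNoetherianRing Γ(S, W) := IsLocallyNoetherian.component_noetherian ⟨W, hW⟩
  let A := Γ(S, W)
  let σ : MvPolynomial (Fin n) (MvPolynomial (Fin m) A) →+* MvPolynomial (Fin n) Γ(Y, V) := MvPolynomial.map β
  have hσ : Function.Surjective σ := MvPolynomial.map_surjective β hβ
  let γ := α.comp σ
  have hγC : γ.comp (MvPolynomial.C.comp MvPolynomial.C) = ((f ≫ g).appLE W U e).hom := by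
    refine RingHom.ext fun a => ?_
    show α (MvPolynomial.map β (MvPolynomial.C (MvPolynomial.C a))) = _
    rw [MvPolynomial.map_C, show β (MvPolynomial.C a) = (g.appLE W V eV).hom a from RingHom.congr_fun hβC a,
      show ∀ b, α (MvPolynomial.C b) = (f.appLE V U eU).hom b from fun b => RingHom.congr_fun hαC b,
      ← RingHom.comp_apply, ← CommRingCat.hom_comp, Scheme.Hom.appLE_comp_appLE]
  have hφ : ((MvPolynomial.C : MvPolynomial (Fin m) A →+* MvPolynomial (Fin n) (MvPolynomial (Fin m) A)).comp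
      (MvPolynomial.C : A →+* MvPolynomial (Fin m) A)).Smooth :=
    RingHom.Smooth.comp (smooth_C A m) (smooth_C (MvPolynomial (Fin m) A) n)
  have hJ : RegAt (RingHom.ker γ) ((hU.primeIdealOf ⟨x, hxU⟩).asIdeal.comap γ) :=
    (isKoszulAt_iff (f ≫ g) hU hW e _ hφ γ (hα.comp hσ) hγC x hxU).mp h
  let q := (hU.primeIdealOf ⟨x, hxU⟩).asIdeal.comap α
  have hKq : RingHom.ker α ≤ q := ker_le_prime α _
  rw [show RingHom.ker γ = (RingHom.ker α).comap σ from rfl, ← Ideal.comap_comap] at hJ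
  obtain ⟨hI, hK⟩ := regAt_pair σ hσ (RingHom.ker α) q hKq hJ (hres U V hU hV eU n α hα hαC q)
  refine ⟨(isKoszulAt_iff f hU hV eU MvPolynomial.C (smooth_C _ n) α hα hαC x hxU).mpr hK, ?_⟩
  have hp : ((hV.primeIdealOf ⟨f x, eU hxU⟩).asIdeal.comap β) = (q.comap σ).comap MvPolynomial.C := by
    have h1 : σ.comp MvPolynomial.C = MvPolynomial.C.comp β := RingHom.ext fun a => MvPolynomial.map_C β a
    rw [Ideal.comap_comap, h1, ← Ideal.comap_comap]
    show _ = Ideal.comap β (((hU.primeIdealOf ⟨x, hxU⟩).asIdeal.comap α).comap MvPolynomial.C)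
    rw [Ideal.comap_comap (f := MvPolynomial.C), hαC]
    exact congrArg (fun p => Ideal.comap β (PrimeSpectrum.asIdeal p))
      (IsAffineOpen.comap_primeIdealOf_appLE (f := f) V hV U hU eU hxU).symm
  rw [isKoszulAt_iff g hV hW eV MvPolynomial.C (smooth_C _ m) β hβ hβC (f x) (eU hxU), hp]
  have hflat : (MvPolynomial.C : MvPolynomial (Fin m) A →+* MvPolynomial (Fin n) (MvPolynomial (Fin m) A)).Flat := by
    rw [← MvPolynomial.algebraMap_eq, RingHom.flat_algebraMap_iff]
    infer_instance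
  refine regAt_descend MvPolynomial.C hflat MvPolynomial.isOpenMap_comap_C _ _ ?_ ?_
  · rw [← hp]
    exact ker_le_prime β _
  · rw [← MvPolynomial.ker_map β]
    exact hI

end Groth.L14.FlatMor
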