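import Groth.Agent.L07.RegularLCI
import Groth.Agent.L07.KoszulChart
import Groth.Agent.L07.FiniteTorConormal
import Groth.Agent.S0563
import Groth.Agent.L19.PerfectHom
import Groth.Agent.L14.NLAmp.FiniteTor

/-! # A Koszul-regular composite quotient with a finite resolution splits -/

set_option autoImplicit false
set_option linter.style.haveILetI false
set_option maxSynthPendingDepth 3

universe u

open CategoryTheory CategoryTheory.Limits IsLocalRing TensorProduct
open Groth.L07.KoszulIdeal (RegAt regAt_of_atPrime)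
open Groth.L07.DiagRes (Res res_of_equiv)

namespace Groth.L14.FlatMor

/-- Finite projective dimension gives a finite resolution over a Noetherian ring. -/
theorem res_of_pd {E : Type u} [CommRing E] [IsNoetherianRing E] : ∀ {n : ℕ} {M : Type u} [AddCommGroup M]
    [Module E M] [Module.Finite E M], HasProjectiveDimensionLT (ModuleCat.of E M) (n + 1) → Res E n M
  | 0, M, _, _, _, h => by
    rw [← projective_iff_hasProjectiveDimensionLT_one, ← IsProjective.iff_projective] at h
    exact ⟨h, inferInstance⟩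
  | n + 1, M, _, _, _, h => by
    obtain ⟨m, g, hg⟩ := Module.Finite.exists_fin' E M
    have hS : (ShortComplex.mk (ModuleCat.ofHom (LinearMap.ker g).subtype) (ModuleCat.ofHom g)
        (ModuleCat.hom_ext (LinearMap.ext fun x => x.2))).ShortExact :=
      { exact := (ShortComplex.ShortExact.moduleCat_exact_iff_function_exact _).2 g.exact_subtype_ker_map
        mono_f := ConcreteCategory.mono_of_injective _ Subtype.val_injective
        epi_g := ConcreteCategory.epi_of_surjective _ hg }
    exact ⟨m, g, hg, res_of_pd ((hS.hasProjectiveDimensionLT_X₃_iff n ((IsProjective.iff_projective _).mp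
      (inferInstanceAs (Module.Projective E (Fin m → E))))).mp h)⟩

/-- Finite modules over regular local rings have finite resolutions. -/
theorem res_of_regular {E M : Type u} [CommRing E] [IsRegularLocalRing E] [AddCommGroup M] [Module E M]
    [Module.Finite E M] : ∃ n, Res E n M := by
  obtain ⟨d, hd⟩ := Groth.L01.exists_dim_eq_nat (R := E)
  exact ⟨d, res_of_pd (Groth.Agent.S0563.result E d hd M)⟩

/-- Finite Tor dimension over the base gives a finite resolution over a polynomial algebra. -/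
theorem res_mvPolynomial {B : Type u} [CommRing B] [IsNoetherianRing B] {n : ℕ} (M : Type u) [AddCommGroup M]
    [Module B M] [Module (MvPolynomial (Fin n) B) M] [IsScalarTower B (MvPolynomial (Fin n) B) M]
    [Module.Finite (MvPolynomial (Fin n) B) M] (h : DRing.HasFiniteTorDim B M) :
    ∃ k, Res (MvPolynomial (Fin n) B) k M := by
  obtain ⟨d, hd⟩ := h
  exact ⟨d + n, res_of_pd (Groth.L14.NLAmp.hasProjectiveDimensionLT_of_torDim (d + n)
    ((Groth.L10.DR.hasTorDimLE_iff_amp (d + n)).2
      (Groth.L19.PerfectHom.amp_mvPolynomial n M d ((Groth.L10.DR.hasTorDimLE_iff_amp d).1 hd))))⟩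

variable {R P : Type u} [CommRing R] [CommRing P] [IsNoetherianRing R]

/-- If `σ⁻¹ K` is regular at a prime and `P/K` has a finite resolution there, so are `ker σ` and `K`. -/
theorem regAt_pair (σ : R →+* P) (hσ : Function.Surjective σ) (K q : Ideal P) [q.IsPrime] (hKq : K ≤ q)
    (hJ : RegAt (K.comap σ) (q.comap σ))
    (hres : ∀ (E : Type u) [CommRing E] [IsLocalRing E] [Algebra P E] [IsLocalization.AtPrime E q],
      ∃ n, Res E n (E ⊗[P] (P ⧸ K))) :
    RegAt (RingHom.ker σ) (q.comap σ) ∧ RegAt K q := by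
  haveI : IsNoetherianRing P := isNoetherianRing_of_surjective R P σ hσ
  let Q := q.comap σ
  let J := K.comap σ
  let I := RingHom.ker σ
  let L := Localization.AtPrime Q
  let IL := I.map (algebraMap R L)
  let JL := J.map (algebraMap R L)
  have hIJ : I ≤ J := fun r hr => by
    show σ r ∈ K
    rw [RingHom.mem_ker.mp hr]
    exact zero_mem K
  have hIJL : IL ≤ JL := Ideal.map_mono hIJ
  have hJm : JL ≤ maximalIdeal L := Ideal.map_le_iff_le_comap.mpr fun r hr =>
    (IsLocalization.AtPrime.to_map_mem_maximal_iff L Q r).mpr (show σ r ∈ q from hKq hr)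
  have hJne : JL ≠ ⊤ := fun e => (maximalIdeal.isMaximal L).ne_top (top_le_iff.mp (e ▸ hJm))
  -- `JL` is a regular ideal
  have hJR : CInt.IsRegularIdeal JL := by
    obtain ⟨g, hg, l, hl⟩ := hJ
    have hu : IsUnit (algebraMap R L g) := IsLocalization.map_units L (⟨g, hg⟩ : Q.primeCompl)
    have hk := hl.regular (algebraMap R L) (RingHom.flat_algebraMap_iff.mpr (IsLocalization.flat L Q.primeCompl)) hu
    have he : JL = Ideal.ofList (l.map (algebraMap R L)) := hl.map_eq _ hu
    have hmem : ∀ x ∈ l.map (algebraMap R L), x ∈ maximalIdeal L := fun x hx =>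
      hJm (he.ge (Ideal.subset_span hx))
    refine ⟨l.map (algebraMap R L), ⟨Groth.L07.KoszulBC.isWeaklyRegular_of_koszul _ hmem
      (fun n hn => Groth.L07.KoszulBC.isZero_of_isKoszulRegularSeq _ hk n hn), ?_⟩, he.symm⟩
    rw [smul_eq_mul, Ideal.mul_top, ← he]
    exact hJne.symm
  -- the local ring of `P` at `q`
  let E := L ⧸ IL
  haveI : IsLocalRing E := Groth.L01.isLocalRing_quotient (ne_top_of_le_ne_top hJne hIJL)
  have hker : ∀ r : R, r ∈ RingHom.ker σ → ((Ideal.Quotient.mk IL).comp (algebraMap R L)) r = 0 := fun r hr =>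
    Ideal.Quotient.eq_zero_iff_mem.mpr (Ideal.mem_map_of_mem _ hr)
  let ι : P →+* E := RingHom.liftOfSurjective σ hσ ⟨(Ideal.Quotient.mk IL).comp (algebraMap R L), hker⟩
  have hι : ∀ r, ι (σ r) = Ideal.Quotient.mk IL (algebraMap R L r) := fun r =>
    RingHom.liftOfRightInverse_comp_apply σ _ _ _ r
  letI : Algebra P E := ι.toAlgebra
  haveI : IsLocalization.AtPrime E q := by
    refine (isLocalization_iff q.primeCompl E).mpr ⟨?_, ?_, ?_⟩
    · rintro ⟨s, hs⟩
      obtain ⟨s, rfl⟩ := hσ s
      show IsUnit (ι (σ s))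
      rw [hι]
      exact (IsLocalization.map_units L (⟨s, hs⟩ : Q.primeCompl)).map _
    · intro z
      obtain ⟨z, rfl⟩ := Ideal.Quotient.mk_surjective z
      obtain ⟨⟨a, s⟩, hz⟩ := IsLocalization.surj Q.primeCompl z
      refine ⟨⟨σ a, ⟨σ (s : R), s.2⟩⟩, ?_⟩
      show Ideal.Quotient.mk IL z * ι (σ (s : R)) = ι (σ a)
      rw [hι, hι, ← map_mul]
      exact congrArg _ hz
    · intro a b hab
      obtain ⟨a, rfl⟩ := hσ a
      obtain ⟨b, rfl⟩ := hσ b
      have h1 : algebraMap R L (a - b) ∈ IL := by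
        rw [map_sub]
        exact Ideal.Quotient.eq.mp (by rw [← hι, ← hι]; exact hab)
      obtain ⟨t, ht, htI⟩ := (IsLocalization.algebraMap_mem_map_algebraMap_iff Q.primeCompl L I _).mp h1
      refine ⟨⟨σ t, ht⟩, ?_⟩
      have h2 : σ (t * (a - b)) = 0 := htI
      rw [map_mul, map_sub, mul_sub, sub_eq_zero] at h2
      exact h2
  obtain ⟨n, hn⟩ := hres E
  -- the resolution of `L/JL`
  letI : Algebra E (L ⧸ JL) := (Ideal.Quotient.factor hIJL).toAlgebra
  haveI : IsScalarTower L E (L ⧸ JL) := IsScalarTower.of_algebraMap_eq fun _ => rfl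
  have hmap : K.map ι = JL.map (Ideal.Quotient.mk IL) := by
    have hc : ι.comp σ = (Ideal.Quotient.mk IL).comp (algebraMap R L) := RingHom.ext hι
    rw [← Ideal.map_comap_of_surjective σ hσ K, Ideal.map_map, hc, ← Ideal.map_map]
  have hsurj : Function.Surjective (Algebra.linearMap E (L ⧸ JL)) := Ideal.Quotient.factor_surjective hIJL
  have hk2 : (K.map (algebraMap P E) : Submodule E E) = LinearMap.ker (Algebra.linearMap E (L ⧸ JL)) := by
    ext x
    obtain ⟨x, rfl⟩ := Ideal.Quotient.mk_surjective x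
    show Ideal.Quotient.mk IL x ∈ K.map ι ↔ Ideal.Quotient.factor hIJL (Ideal.Quotient.mk IL x) = 0
    rw [hmap, Ideal.mem_quotient_iff_mem hIJL, Ideal.Quotient.factor_mk, Ideal.Quotient.eq_zero_iff_mem]
  have hres' : Res E n (L ⧸ JL) :=
    res_of_equiv ((Algebra.TensorProduct.quotIdealMapEquivTensorQuot E K).symm.toLinearEquiv ≪≫ₗ
      Submodule.quotEquivOfEq _ _ hk2 ≪≫ₗ (Algebra.linearMap E (L ⧸ JL)).quotKerEquivOfSurjective hsurj) hn
  -- split
  obtain ⟨m, f, hf⟩ := Groth.L07.RegIdeal.exists_isMin IL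
  have hind : Groth.L07.RegIdeal.Indep JL f := fun c hc =>
    hf.2 c (Groth.L07.FiniteTorConormal.mem_maximal_mul_of_res IL JL hIJL hJne hres' _
      (hf.1.le (sum_mem fun i _ => Ideal.mul_mem_left _ _ (Ideal.subset_span ⟨i, rfl⟩))) hc)
  obtain ⟨⟨r1, h1, h1'⟩, ⟨r2, h2, h2'⟩⟩ := Groth.L07.RegIdeal.isRegularIdeal_of_indep hIJL hJR hf.1 hind
  exact ⟨regAt_of_atPrime I Q (fun r hr => hKq (hIJ hr)) L r1 h1.toIsWeaklyRegular h1'.symm,
    regAt_of_atPrime K q hKq E r2 h2.toIsWeaklyRegular (hmap.trans h2'.symm)⟩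

end Groth.L14.FlatMor
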